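import Mathlib

/-! A homotopy equivalence of simplicial abelian groups is a quasi-isomorphism. -/

universe u

open CategoryTheory Simplicial Opposite AlgebraicTopology AlgebraicTopology.DoldKan

noncomputable section

namespace Groth.Agent.SimpAbHtpy

variable {X Y : SimplicialObject AddCommGrpCat.{u}}

/-- The alternating face map complex. -/
abbrev K (X : SimplicialObject AddCommGrpCat.{u}) : ChainComplex AddCommGrpCat.{u} ℕ :=
  (alternatingFaceMapComplex AddCommGrpCat).obj X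

lemma d_apply (n : ℕ) (w : X.obj (op ⦋n + 1⦌)) :
    (K X).d (n + 1) n w = ∑ j : Fin (n + 2), (-1 : ℤ) ^ (j : ℕ) • X.δ j w := by
  show ((alternatingFaceMapComplex AddCommGrpCat).obj X).d (n + 1) n w = _
  erw [AlternatingFaceMapComplex.obj_d_eq]
  exact (map_sum ((AddMonoidHom.eval (M := X.obj (op ⦋n + 1⦌)) (N := X.obj (op ⦋n⦌)) w).comp
    AddCommGrpCat.homAddEquiv.toAddMonoidHom) _ _).trans (Finset.sum_congr rfl fun j _ => rfl)

/-- Normalised cycles. -/
def IsNCyc (X : SimplicialObject AddCommGrpCat.{u}) (n : ℕ) (z : X.obj (op ⦋n⦌)) : Prop :=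
  match n, z with
  | 0, _ => True
  | m + 1, z => ∀ j : Fin (m + 2), X.δ j z = 0

lemma IsNCyc.d_eq_zero {n : ℕ} {z : X.obj (op ⦋n⦌)} (hz : IsNCyc X n z) (m : ℕ) : (K X).d n m z = 0 := by
  by_cases h : (ComplexShape.down ℕ).Rel n m
  · obtain rfl : m + 1 = n := h
    rw [d_apply]
    exact Finset.sum_eq_zero fun j _ => by rw [hz j, smul_zero]
  · rw [(K X).shape _ _ h]; rfl

/-- A simplicial map, degreewise, as a function between the groups. -/
def fn (g : (X ⋙ forget AddCommGrpCat.{u} : SSet.{u}) ⟶ (Y ⋙ forget AddCommGrpCat.{u} : SSet.{u})) (n : ℕ)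
    (z : X.obj (op ⦋n⦌)) : Y.obj (op ⦋n⦌) := g.app (op ⦋n⦌) z

/-- A simplicial homotopy, degreewise, as a function between the groups. -/
def hfn {a b : (X ⋙ forget AddCommGrpCat.{u} : SSet.{u}) ⟶ (Y ⋙ forget AddCommGrpCat.{u} : SSet.{u})}
    (H : SimplicialObject.Homotopy a b) {n : ℕ} (i : Fin (n + 1)) (z : X.obj (op ⦋n⦌)) : Y.obj (op ⦋n + 1⦌) :=
  H.h i z

theorem prism {a b : (X ⋙ forget AddCommGrpCat.{u} : SSet.{u}) ⟶ (Y ⋙ forget AddCommGrpCat.{u} : SSet.{u})}
    (H : SimplicialObject.Homotopy a b) {n : ℕ} (z : X.obj (op ⦋n⦌)) (hz : IsNCyc X n z) :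
    ∃ w : Y.obj (op ⦋n + 1⦌), (K Y).d (n + 1) n w =
      (fn b n z - fn b n 0) - (fn a n z - fn a n 0) := by
  classical
  let h' : Fin (n + 1) → Y.obj (op ⦋n + 1⦌) := fun i => hfn H i z - hfn H i 0
  let c : Fin (n + 2) → Y.obj (op ⦋n⦌) := Fin.lastCases (Y.δ (Fin.last (n + 1)) (h' (Fin.last n)))
    (fun i => Y.δ i.castSucc (h' i))
  have hsucc : ∀ i : Fin (n + 1), Y.δ i.succ (h' i) = c i.succ := by
    intro i
    induction i using Fin.lastCases with
    | last => rw [Fin.succ_last]; simp [c]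
    | cast i =>
      obtain _ | n := n
      · exact i.elim0
      rw [show i.castSucc.succ = i.succ.castSucc from rfl]
      simp only [c, Fin.lastCases_castSucc, h', map_sub]
      have e := fun q => ConcreteCategory.congr_hom (H.h_succ_comp_δ_castSucc_succ i) q
      exact (congrArg₂ (fun p q => p - q) (e z) (e 0)).symm
  have hzero : ∀ (i : Fin (n + 1)) (j : Fin (n + 2)), j ≠ i.castSucc → j ≠ i.succ → Y.δ j (h' i) = 0 := by
    intro i j h1 h2
    obtain _ | n := n
    · exfalso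
      fin_cases i; fin_cases j <;> simp_all
    have hz' : ∀ l, X.δ l z = 0 := hz
    simp only [h', map_sub]
    rw [sub_eq_zero]
    rcases lt_or_gt_of_ne h1 with hlt | hgt
    · obtain ⟨j', rfl⟩ : ∃ j' : Fin (n + 2), j = j'.castSucc :=
        ⟨⟨j.val, by have := i.isLt; simp only [Fin.lt_def, Fin.val_castSucc] at hlt; omega⟩, rfl⟩
      obtain ⟨i', rfl⟩ : ∃ i' : Fin (n + 1), i = i'.succ :=
        ⟨⟨i.val - 1, by have := i.isLt; simp only [Fin.lt_def, Fin.val_castSucc] at hlt; omega⟩,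
          Fin.ext (by simp only [Fin.lt_def, Fin.val_castSucc] at hlt; simp; omega)⟩
      have hle : j' ≤ i'.castSucc := by simp [Fin.lt_def, Fin.le_def, -Fin.val_fin_lt, -Fin.val_fin_le] at hlt ⊢; omega
      have e : ∀ q, Y.δ j'.castSucc (hfn H i'.succ q) = hfn H i' (X.δ j' q) :=
        fun q => ConcreteCategory.congr_hom (H.h_succ_comp_δ_castSucc_of_lt j' i' hle) q
      refine (e z).trans (Eq.trans ?_ (e 0).symm)
      refine congrArg _ ((hz' j').trans (map_zero (X.δ j').hom).symm)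
    · have hgt' : i.succ < j := lt_of_le_of_ne (Fin.castSucc_lt_iff_succ_le.1 hgt) (Ne.symm h2)
      obtain ⟨j', rfl⟩ : ∃ j' : Fin (n + 2), j = j'.succ :=
        ⟨⟨j.val - 1, by have := j.isLt; omega⟩, Fin.ext (by simp only [Fin.lt_def, Fin.val_succ, Fin.val_castSucc] at hgt'; simp; omega)⟩
      obtain ⟨i', rfl⟩ : ∃ i' : Fin (n + 1), i = i'.castSucc :=
        ⟨⟨i.val, by have := j'.isLt; simp only [Fin.lt_def, Fin.val_succ, Fin.val_castSucc] at hgt'; omega⟩, rfl⟩
      have hlt : i'.castSucc < j' := by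
        simp only [Fin.lt_def, Fin.val_succ, Fin.val_castSucc] at hgt' ⊢; omega
      have e : ∀ q, Y.δ j'.succ (hfn H i'.castSucc q) = hfn H i' (X.δ j' q) :=
        fun q => ConcreteCategory.congr_hom (H.h_castSucc_comp_δ_succ_of_lt j' i' hlt) q
      refine (e z).trans (Eq.trans ?_ (e 0).symm)
      refine congrArg _ ((hz' j').trans (map_zero (X.δ j').hom).symm)
  refine ⟨∑ i : Fin (n + 1), (-1 : ℤ) ^ (i : ℕ) • h' i, ?_⟩
  rw [map_sum]
  have hone : ∀ i : Fin (n + 1), (K Y).d (n + 1) n ((-1 : ℤ) ^ (i : ℕ) • h' i) = c i.castSucc - c i.succ := by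
    intro i
    rw [map_zsmul, d_apply, Finset.smul_sum,
      Fintype.sum_eq_add i.castSucc i.succ (ne_of_lt i.castSucc_lt_succ)
        (fun j hj => by rw [hzero i j hj.1 hj.2, smul_zero, smul_zero]), ← hsucc]
    simp only [c, Fin.lastCases_castSucc, Fin.val_castSucc, Fin.val_succ, smul_smul, ← pow_add]
    rw [show ((-1 : ℤ)) ^ ((i : ℕ) + (i : ℕ)) = 1 from Even.neg_one_pow ⟨_, rfl⟩,
      show ((-1 : ℤ)) ^ ((i : ℕ) + ((i : ℕ) + 1)) = -1 from Odd.neg_one_pow ⟨(i : ℕ), by ring⟩]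
    simp [sub_eq_add_neg]
  rw [Finset.sum_congr rfl fun i _ => hone i, Finset.sum_sub_distrib]
  have e1 := Fin.sum_univ_castSucc c
  have e2 := Fin.sum_univ_succ c
  have hc0 : c 0 = fn b n z - fn b n 0 := by
    rw [show (0 : Fin (n + 2)) = (0 : Fin (n + 1)).castSucc from rfl]
    simp only [c, Fin.lastCases_castSucc, h', map_sub]
    exact congrArg₂ (fun p q => p - q) (ConcreteCategory.congr_hom (H.h_zero_comp_δ_zero n) z)
      (ConcreteCategory.congr_hom (H.h_zero_comp_δ_zero n) 0)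
  have hcl : c (Fin.last (n + 1)) = fn a n z - fn a n 0 := by
    simp only [c, Fin.lastCases_last, h', map_sub]
    exact congrArg₂ (fun p q => p - q) (ConcreteCategory.congr_hom (H.h_last_comp_δ_last n) z)
      (ConcreteCategory.congr_hom (H.h_last_comp_δ_last n) 0)
  rw [← hc0, ← hcl]
  refine (sub_eq_sub_iff_add_eq_add (G := Y.obj (op ⦋n⦌))).2 ?_
  exact e1.symm.trans e2

/-- A cycle. -/
def mkCyc {n : ℕ} (z : X.obj (op ⦋n⦌)) (hz : ∀ m, (K X).d n m z = 0) : (K X).cycles n :=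
  ((K X).sc n).abCyclesIso.inv ⟨z, hz _⟩

/-- The class of a cycle. -/
def cls {n : ℕ} (z : X.obj (op ⦋n⦌)) (hz : ∀ m, (K X).d n m z = 0) : (K X).homology n :=
  (K X).homologyπ n (mkCyc z hz)

lemma iCycles_injective (n : ℕ) : Function.Injective ((K X).iCycles n) :=
  (AddCommGrpCat.mono_iff_injective _).1 inferInstance

lemma iCycles_mk {n : ℕ} (z : X.obj (op ⦋n⦌)) (hz : ∀ m, (K X).d n m z = 0) :
    (K X).iCycles n (mkCyc z hz) = z :=
  ((K X).sc n).abCyclesIso_inv_apply_iCycles ⟨z, hz _⟩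

lemma cls_surjective {n : ℕ} (α : (K X).homology n) : ∃ z hz, cls (X := X) (n := n) z hz = α := by
  obtain ⟨c, rfl⟩ := (AddCommGrpCat.epi_iff_surjective ((K X).homologyπ n)).1 inferInstance α
  refine ⟨(K X).iCycles n c, fun m => ConcreteCategory.congr_hom ((K X).iCycles_d n m) c, congrArg ((K X).homologyπ n) ?_⟩
  exact iCycles_injective n (iCycles_mk _ _)

lemma cls_sub_eq {n : ℕ} (z z' : X.obj (op ⦋n⦌)) (hz : ∀ m, (K X).d n m z = 0) (hz' : ∀ m, (K X).d n m z' = 0) :
    cls z hz = cls z' hz' ↔ ∃ w : X.obj (op ⦋n + 1⦌), (K X).d (n + 1) n w = z - z' := by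
  rw [← sub_eq_zero, cls, cls, ← map_sub]
  let S : ShortComplex AddCommGrpCat := ShortComplex.mk ((K X).toCycles (n + 1) n) ((K X).homologyπ n)
    ((K X).toCycles_comp_homologyπ _ _)
  have hS : S.Exact := ShortComplex.exact_of_g_is_cokernel _ ((K X).homologyIsCokernel (n + 1) n (by simp))
  constructor
  · intro h
    obtain ⟨w, hw⟩ := (S.ab_exact_iff.1 hS) _ h
    refine ⟨w, ?_⟩
    have := congrArg ((K X).iCycles n) hw
    rw [map_sub, iCycles_mk, iCycles_mk] at this
    rw [← this, ← (K X).toCycles_i (n + 1) n]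
    rfl
  · rintro ⟨w, hw⟩
    have e : (K X).toCycles (n + 1) n w =
        mkCyc z hz - mkCyc z' hz' := by
      refine iCycles_injective n ?_
      rw [map_sub, iCycles_mk, iCycles_mk, ← hw, ← (K X).toCycles_i (n + 1) n]
      rfl
    rw [← e]
    exact ConcreteCategory.congr_hom ((K X).toCycles_comp_homologyπ (n + 1) n) w

lemma map_cls (f : X ⟶ Y) {n : ℕ} (z : X.obj (op ⦋n⦌)) (hz : ∀ m, (K X).d n m z = 0) :
    ∃ hz', HomologicalComplex.homologyMap ((alternatingFaceMapComplex AddCommGrpCat).map f) n (cls z hz) =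
      cls (X := Y) (n := n) (f.app (op ⦋n⦌) z) hz' := by
  let φ := (alternatingFaceMapComplex AddCommGrpCat).map f
  refine ⟨fun m => ?_, ?_⟩
  · have := ConcreteCategory.congr_hom (φ.comm n m) z
    rw [ConcreteCategory.comp_apply, ConcreteCategory.comp_apply, hz m, map_zero] at this
    exact this
  · unfold cls
    rw [← ConcreteCategory.comp_apply, HomologicalComplex.homologyπ_naturality, ConcreteCategory.comp_apply]
    refine congrArg _ (iCycles_injective n ?_)
    refine Eq.trans ?_ (iCycles_mk _ _).symm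
    rw [← ConcreteCategory.comp_apply, HomologicalComplex.cyclesMap_i, ConcreteCategory.comp_apply, iCycles_mk]
    rfl

lemma δ_PInfty {n : ℕ} (x : X.obj (op ⦋n + 1⦌)) (j : Fin (n + 1)) :
    X.δ j.succ ((PInfty (X := X)).f (n + 1) x) = 0 := by
  rw [PInfty_f]
  exact ConcreteCategory.congr_hom ((HigherFacesVanish.of_P (X := X) (n + 1) n) j (by omega)) x

lemma exists_nCyc {n : ℕ} (α : (K X).homology n) :
    ∃ z, ∃ hz : IsNCyc X n z, (PInfty : K X ⟶ K X).f n z = z ∧ cls (X := X) z hz.d_eq_zero = α := by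
  obtain ⟨z, hz, rfl⟩ := cls_surjective α
  let φ : K X ⟶ K X := PInfty
  have hPz : ∀ m, (K X).d n m (φ.f n z) = 0 := fun m => by
    rw [← ConcreteCategory.comp_apply, φ.comm n m, ConcreteCategory.comp_apply, hz m, map_zero]
  have hN : IsNCyc X n (φ.f n z) := by
    obtain _ | n := n
    · trivial
    intro j
    induction j using Fin.cases with
    | zero =>
      have h := hPz n
      rw [d_apply, Fin.sum_univ_succ, Finset.sum_eq_zero (fun j _ => by rw [δ_PInfty, smul_zero]), add_zero] at h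
      simpa using h
    | succ j => exact δ_PInfty z j
  refine ⟨φ.f n z, hN, ConcreteCategory.congr_hom (PInfty_f_idem (X := X) n) z, (cls_sub_eq _ _ _ hz).2 ?_⟩
  let h := homotopyPInftyToId X
  refine ⟨h.hom n (n + 1) z, ?_⟩
  have hc := ConcreteCategory.congr_hom (h.comm n) z
  rw [prevD_eq (j' := n + 1) (w := by simp)] at hc
  have hd : (dNext n) h.hom z = 0 := by
    obtain _ | n := n
    · rw [dNext_eq_zero _ _ (by simp)]; rfl
    · rw [dNext_eq (i' := n) (w := by simp)]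
      show h.hom n (n + 1) ((K X).d (n + 1) n z) = 0
      rw [hz n, map_zero]
  refine Eq.symm ((sub_eq_iff_eq_add (G := X.obj (op ⦋n⦌))).2 ?_)
  refine hc.trans ?_
  erw [AddMonoidHom.add_apply, AddMonoidHom.add_apply, hd, zero_add]
  rfl

/-- The based map attached to a simplicial map. -/
def based (g : (X ⋙ forget AddCommGrpCat.{u} : SSet.{u}) ⟶ (Y ⋙ forget AddCommGrpCat.{u} : SSet.{u})) (n : ℕ)
    (z : X.obj (op ⦋n⦌)) : Y.obj (op ⦋n⦌) :=
  fn g n z - fn g n 0

lemma δ_based (g : (X ⋙ forget AddCommGrpCat.{u} : SSet.{u}) ⟶ (Y ⋙ forget AddCommGrpCat.{u} : SSet.{u})) {n : ℕ}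
    (j : Fin (n + 2)) (z : X.obj (op ⦋n + 1⦌)) : Y.δ j (based g (n + 1) z) = based g n (X.δ j z) := by
  have e : ∀ q, Y.δ j (fn g (n + 1) q) = fn g n (X.δ j q) := fun q =>
    (ConcreteCategory.congr_hom (g.naturality (SimplexCategory.δ j).op) q).symm
  show Y.δ j (fn g (n + 1) z - fn g (n + 1) 0) = _
  rw [map_sub]
  exact congrArg₂ (fun p q => p - q) (e z) ((e 0).trans (congrArg _ (map_zero (X.δ j).hom)))

lemma IsNCyc.based {n : ℕ} {z : X.obj (op ⦋n⦌)} (hz : IsNCyc X n z)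
    (g : (X ⋙ forget AddCommGrpCat.{u} : SSet.{u}) ⟶ (Y ⋙ forget AddCommGrpCat.{u} : SSet.{u})) :
    IsNCyc Y n (based g n z) := by
  obtain _ | n := n
  · trivial
  intro j
  rw [δ_based, hz j]
  exact sub_self _

lemma prism' {a : (X ⋙ forget AddCommGrpCat.{u} : SSet.{u}) ⟶ (X ⋙ forget AddCommGrpCat.{u} : SSet.{u})}
    (H : Nonempty (SSet.Homotopy a (𝟙 _)) ∨ Nonempty (SSet.Homotopy (𝟙 _) a)) {n : ℕ} {z : X.obj (op ⦋n⦌)}
    (hz : IsNCyc X n z) :
    ∃ w : X.obj (op ⦋n + 1⦌), (K X).d (n + 1) n w = based a n z - z := by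
  rcases H with ⟨⟨H⟩⟩ | ⟨⟨H⟩⟩
  · obtain ⟨w, hw⟩ := prism H.toSimplicialObjectHomotopy z hz
    refine ⟨-w, ?_⟩
    rw [map_neg, hw]
    show -((z - 0) - based a n z) = based a n z - z
    abel
  · obtain ⟨w, hw⟩ := prism H.toSimplicialObjectHomotopy z hz
    refine ⟨w, hw.trans ?_⟩
    show based a n z - (z - 0) = based a n z - z
    rw [sub_zero]

theorem quasiIso (f : X ⟶ Y) (g : (Y ⋙ forget AddCommGrpCat.{u} : SSet.{u}) ⟶ (X ⋙ forget AddCommGrpCat.{u} : SSet.{u}))
    (hX : Nonempty (SSet.Homotopy (Functor.whiskerRight f (forget AddCommGrpCat.{u}) ≫ g) (𝟙 _)) ∨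
      Nonempty (SSet.Homotopy (𝟙 _) (Functor.whiskerRight f (forget AddCommGrpCat.{u}) ≫ g)))
    (hY : Nonempty (SSet.Homotopy (g ≫ Functor.whiskerRight f (forget AddCommGrpCat.{u})) (𝟙 _)) ∨
      Nonempty (SSet.Homotopy (𝟙 _) (g ≫ Functor.whiskerRight f (forget AddCommGrpCat.{u})))) :
    QuasiIso ((alternatingFaceMapComplex AddCommGrpCat.{u}).map f) := by
  refine (quasiIso_iff _).2 fun n => (quasiIsoAt_iff_isIso_homologyMap _ n).2 ?_
  rw [ConcreteCategory.isIso_iff_bijective]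
  have hfg : ∀ z, based (Functor.whiskerRight f (forget AddCommGrpCat.{u}) ≫ g) n z = based g n (f.app (op ⦋n⦌) z) := fun z => by
    show _ - g.app (op ⦋n⦌) (f.app (op ⦋n⦌) 0) = _
    rw [map_zero]
    rfl
  have hgf : ∀ z, based (g ≫ Functor.whiskerRight f (forget AddCommGrpCat.{u})) n z = f.app (op ⦋n⦌) (based g n z) := fun z =>
    (map_sub (f.app (op ⦋n⦌)).hom _ _).symm
  constructor
  · rw [injective_iff_map_eq_zero]
    intro α hα
    obtain ⟨x, hx, hPfix, rfl⟩ := exists_nCyc α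
    obtain ⟨hfx, e⟩ := map_cls f x hx.d_eq_zero
    rw [e] at hα
    have h0 : cls (X := Y) (n := n) 0 (fun m => map_zero _) = 0 := by
      rw [cls]
      convert map_zero ((K Y).homologyπ n).hom
      exact iCycles_injective n ((iCycles_mk _ _).trans (map_zero _).symm)
    obtain ⟨w, hw⟩ := (cls_sub_eq _ _ hfx (fun m => map_zero _)).1 (hα.trans h0.symm)
    rw [sub_zero] at hw
    have h0' : cls (X := X) (n := n) 0 (fun m => map_zero _) = 0 := by
      rw [cls]
      convert map_zero ((K X).homologyπ n).hom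
      exact iCycles_injective n ((iCycles_mk _ _).trans (map_zero _).symm)
    rw [← h0', cls_sub_eq]
    obtain ⟨v, hv⟩ := prism' hX hx
    let P : K Y ⟶ K Y := PInfty
    have hPx : P.f n (f.app (op ⦋n⦌) x) = f.app (op ⦋n⦌) x := by
      refine Eq.trans ?_ (congrArg (f.app (op ⦋n⦌)) hPfix)
      exact ConcreteCategory.congr_hom (PInfty_f_naturality n f) x
    refine ⟨based g (n + 1) (P.f (n + 1) w) - v, ?_⟩
    rw [map_sub, hv, hfg, sub_zero]
    have e2 : (K X).d (n + 1) n (based g (n + 1) (P.f (n + 1) w)) = based g n (f.app (op ⦋n⦌) x) := by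
      rw [d_apply, Fin.sum_univ_succ, Finset.sum_eq_zero (fun j _ => by
        rw [δ_based, δ_PInfty, show based g n (0 : Y.obj (op ⦋n⦌)) = 0 from sub_self _, smul_zero]), add_zero, δ_based]
      have hd : (K Y).d (n + 1) n (P.f (n + 1) w) = P.f n (f.app (op ⦋n⦌) x) := by
        rw [← ConcreteCategory.comp_apply, P.comm (n + 1) n, ConcreteCategory.comp_apply, hw]
      rw [d_apply, Fin.sum_univ_succ, Finset.sum_eq_zero (fun j _ => by rw [δ_PInfty, smul_zero]), add_zero, hPx] at hd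
      simp only [Fin.val_zero, pow_zero, one_smul] at hd ⊢
      rw [hd]
    rw [e2, sub_sub_cancel]
  · intro β
    obtain ⟨y, hy, -, rfl⟩ := exists_nCyc β
    obtain ⟨_, e⟩ := map_cls f (based g n y) (hy.based g).d_eq_zero
    refine ⟨_, e.trans ((cls_sub_eq _ _ _ _).2 ?_)⟩
    obtain ⟨v, hv⟩ := prism' hY hy
    exact ⟨v, by rw [hv, hgf]⟩

end Groth.Agent.SimpAbHtpy
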